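import Groth.Agent.KoszShLib.Exist
import Groth.Agent.RegConLib.Frame
import Groth.Agent.GrassLib.SchExtPow
import Groth.Agent.KRLib.Seq
import Groth.Agent.CurvLib.StalkSum
import Groth.Agent.VBResLib.Res
import Groth.Agent.CohCmpLib.LineBundle
import Groth.Prelude.Def_KRR
import Groth.Prelude.Def_Mor2

/-!
# The Koszul resolution of the zero scheme of a regular section
-/

set_option autoImplicit false
set_option linter.style.haveILetI false
set_option linter.unusedSectionVars false
set_option backward.isDefEq.respectTransparency false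
set_option backward.isDefEq.respectTransparency.types false
set_option maxHeartbeats 1000000
universe u v w

open CategoryTheory CategoryTheory.Limits AlgebraicGeometry TopologicalSpace Opposite
open KoszDetLib (IsExactK)
open KoszShLib (secVals GoodExact)

noncomputable section

namespace KZeroSecLib

open Groth.Agent

/-- A sequence generating the unit ideal is Koszul exact. -/
theorem isExactK_of_top {Q : Type u} [CommRing Q] {n : ℕ} {f : Fin n → Q}
    (hf : Ideal.span (Set.range f) = ⊤) : IsExactK f := by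
  intro x hx _
  obtain ⟨v, hv⟩ := Ideal.mem_span_range_iff_exists_fun.1 (hf ▸ Submodule.mem_top : (1 : Q) ∈ _)
  refine ⟨KoszDetLib.L v x, ?_⟩
  have h := KoszDetLib.D_L f v x
  rwa [hx, map_zero, add_zero, hv, one_smul] at h

/-- Two sequences of the same length generating the same ideal, one of them exact: near the ideal the other is exact. -/
theorem exists_away_exact {Q : Type u} [CommRing Q] {n : ℕ} {f g : Fin n → Q} (hf : IsExactK f)
    (hfg : Ideal.span (Set.range f) = Ideal.span (Set.range g)) :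
    ∃ t : Q, t - 1 ∈ Ideal.span (Set.range f) ∧
      ∀ (R : Type u) [CommRing R] [Algebra Q R] [Module.Flat Q R], IsUnit (algebraMap Q R t) →
        IsExactK (fun i => algebraMap Q R (g i)) := by
  classical
  choose c hc using fun i => Ideal.mem_span_range_iff_exists_fun.1 (hfg.le (Ideal.subset_span ⟨i, rfl⟩) : f i ∈ _)
  choose d hd using fun i => Ideal.mem_span_range_iff_exists_fun.1 (hfg.ge (Ideal.subset_span ⟨i, rfl⟩) : g i ∈ _)
  let C : Matrix (Fin n) (Fin n) Q := c
  let D : Matrix (Fin n) (Fin n) Q := d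
  have hC : ∀ i, f i = ∑ j, C i j * g j := fun i => (hc i).symm
  have hD : ∀ i, g i = ∑ j, D i j * f j := fun i => (hd i).symm
  refine ⟨(C * D).det, ?_, fun R _ _ _ hu => ?_⟩
  · let I := Ideal.span (Set.range f)
    have hmem : ∀ i k, (C * D) i k - (if i = k then 1 else 0) ∈ I := fun i k => by
      refine KRLib.coeff_mem_of_relation hf (fun k => (C * D) i k - (if i = k then 1 else 0)) ?_ k
      simp only [sub_mul, Finset.sum_sub_distrib, Matrix.mul_apply, Finset.sum_mul, mul_assoc]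
      rw [Finset.sum_comm]
      simp only [← Finset.mul_sum, ← hD, ← hC]
      simp
    have h1 : (Ideal.Quotient.mk I).mapMatrix (C * D) = 1 := by
      ext i k
      rw [RingHom.mapMatrix_apply, Matrix.map_apply, Matrix.one_apply,
        (Ideal.Quotient.mk_eq_mk_iff_sub_mem _ _).2 (hmem i k)]
      split <;> simp
    refine (Ideal.Quotient.mk_eq_mk_iff_sub_mem _ _).1 ?_
    rw [RingHom.map_det, h1, Matrix.det_one, map_one]
  · let σ := algebraMap Q R
    let C' := σ.mapMatrix C
    let D' := σ.mapMatrix D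
    have hdc : IsUnit (D' * C').det := by
      rw [Matrix.det_mul, mul_comm, ← Matrix.det_mul, ← map_mul, ← RingHom.map_det]
      exact hu
    have hC' : ∀ i, σ (f i) = ∑ j, C' i j * σ (g j) := fun i => by
      rw [hC i, map_sum]; simp only [map_mul]; rfl
    have hD' : ∀ i, σ (g i) = ∑ j, D' i j * σ (f j) := fun i => by
      rw [hD i, map_sum]; simp only [map_mul]; rfl
    let v : Fin n → R := fun j => σ (g j)
    have hu1 : C'.mulVec v = fun i => σ (f i) := funext fun i => (hC' i).symm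
    have hu2 : D'.mulVec (fun i => σ (f i)) = v := funext fun i => (hD' i).symm
    have hinv : ((D' * C')⁻¹).mulVec v = v := by
      conv_lhs => rw [← hu2, ← hu1, Matrix.mulVec_mulVec, Matrix.mulVec_mulVec, Matrix.mul_assoc,
        Matrix.nonsing_inv_mul _ hdc, Matrix.one_mulVec]
    refine KRLib.isExactK_of_matrix (KRLib.isExactK_of_flat (R := R) hf) (C' * (D' * C')⁻¹) D' (fun i => ?_) hD'
      (by rw [← Matrix.mul_assoc, Matrix.mul_nonsing_inv _ hdc])
    have key : (C' * (D' * C')⁻¹).mulVec v = fun i => σ (f i) := by rw [← Matrix.mulVec_mulVec, hinv, hu1]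
    exact (congrFun key i).symm

variable {X Y : Scheme.{u}} {d : ℕ} {E : Y.Modules} (t : E ⟶ Coh.structureModule Y) (i : X ⟶ Y) [IsClosedImmersion i]

/-- The values of the cosection generate the ideal of the zero scheme. -/
def IsZeroScheme : Prop :=
  ∀ U : Y.affineOpens, i.ker.ideal U = Ideal.span {a : Γ(Y, U.1) | ∃ s : Γ(E, U.1), (t.app U.1) s = a}

variable {t i}

theorem span_values (ht : IsZeroScheme t i) {U : Y.affineOpens} (b : Module.Basis (Fin d) Γ(Y, U.1) Γ(E, U.1)) :
    i.ker.ideal U = Ideal.span (Set.range (secVals t b)) := by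
  rw [ht U]
  refine le_antisymm (Ideal.span_le.2 ?_) (Ideal.span_le.2 ?_)
  · rintro a ⟨s, rfl⟩
    show KoszSh.secForm t U.1 s ∈ _
    rw [← b.sum_repr s, map_sum]
    refine Submodule.sum_mem _ fun k _ => ?_
    rw [map_smul, smul_eq_mul]
    exact Ideal.mul_mem_left _ _ (Ideal.subset_span ⟨k, rfl⟩)
  · rintro _ ⟨k, rfl⟩
    exact Ideal.subset_span ⟨b k, rfl⟩

/-- A basis on a small affine open. -/
theorem exists_basis_nhd (hE : FlatMod.IsFinLocFreeOfRank d E) (x : Y) :
    ∃ O : Y.Opens, x ∈ O ∧ ∀ U : Y.affineOpens, U.1 ≤ O → Nonempty (Module.Basis (Fin d) Γ(Y, U.1) Γ(E, U.1)) := by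
  classical
  obtain ⟨O, b, hO, hb⟩ := SeesawLib.rankSet_of_rank hE x
  exact ⟨O, hO, fun U hU => ⟨Module.Basis.ofEquivFun (LinearEquiv.ofBijective (Fintype.linearCombination Γ(Y, U.1)
    (M := E.val.obj (op U.1)) fun k => AmpleLib.res E hU (b k)) (GrassSch.bijective_comb_open hb hU)).symm⟩⟩

/-- The length of a defining regular sequence is the rank of the conormal module. -/
theorem length_eq (hci : FlatMod.IsFinLocFreeOfRank d (Omega.conormal i)) {z : X} {U : Y.Opens} (hU : IsAffineOpen U)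
    (hz : i z ∈ U) {rs : List Γ(Y, U)} (hrs : RingTheory.Sequence.IsRegular Γ(Y, U) rs)
    (hker : i.ker.ideal ⟨U, hU⟩ = Ideal.ofList rs) : rs.length = d := by
  let g : Fin rs.length → Γ(Y, U) := fun k => rs.get k
  have h : RegConLib.Chart i ⟨U, hU⟩ g :=
    { affine := hU.preimage i
      surj := Scheme.Hom.app_surjective i U hU
      ker_eq := by
        rw [← Scheme.Hom.ker_apply i ⟨U, hU⟩, hker, Ideal.ofList]
        exact congrArg _ (Set.ext fun x => (List.mem_iff_get.trans Iff.rfl))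
      wreg := FLI.wReg_of_isWeaklyRegular rs hrs.toIsWeaklyRegular rfl }
  have hf := h.frame z hz
  obtain ⟨e⟩ := CurvLib.nonempty_stalk_pi_of_locFree hci z
  let e' : (Fin rs.length → X.presheaf.stalk z) ≃ₗ[X.presheaf.stalk z] (DevissLib.St z).obj (Omega.conormal i) :=
    LinearEquiv.ofBijective (Fintype.linearCombination (X.presheaf.stalk z) fun k => _) hf
  have := LinearEquiv.finrank_eq (e'.trans e)
  simpa using this

/-- Around every point the values on a basis are Koszul exact. -/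
theorem exists_goodExact (hE : FlatMod.IsFinLocFreeOfRank d E) (ht : IsZeroScheme t i)
    (hi : Mor2.IsRegularClosedImmersion i) (hci : FlatMod.IsFinLocFreeOfRank d (Omega.conormal i)) (x : Y) :
    ∃ U : Y.affineOpens, x ∈ U.1 ∧ GoodExact t d U := by
  obtain ⟨O, hxO, hO⟩ := exists_basis_nhd hE x
  by_cases hx : x ∈ Set.range i
  · obtain ⟨z, rfl⟩ := hx
    obtain ⟨U, hU, hzU, rs, hrs, hker⟩ := hi.2 z
    obtain ⟨a, haO, hza⟩ := QCohLib.exists_basicOpen_nhd hU hxO hzU
    let V : Y.affineOpens := Y.affineBasicOpen (U := ⟨U, hU⟩) a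
    obtain ⟨b⟩ := hO V haO
    haveI := hU.isLocalization_basicOpen a
    haveI : Module.Flat Γ(Y, U) Γ(Y, Y.basicOpen a) := IsLocalization.flat _ (Submonoid.powers a)
    have hlen := length_eq hci hU hzU hrs hker
    let f : Fin d → Γ(Y, V.1) := fun k => algebraMap Γ(Y, U) Γ(Y, Y.basicOpen a) (rs.get (k.cast hlen.symm))
    have hf : IsExactK f := KRLib.isExactK_of_flat (R := Γ(Y, Y.basicOpen a))
      (KRLib.isExactK_cast (KRLib.isExactK_of_isWeaklyRegular rs hrs.toIsWeaklyRegular) hlen fun k => rfl)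
    have hVf : i.ker.ideal V = Ideal.span (Set.range f) := by
      rw [← i.ker.map_ideal (U := V) (V := ⟨U, hU⟩) (Y.basicOpen_le a), hker, Ideal.ofList, Ideal.map_span]
      refine congrArg _ (Set.ext fun w => ⟨?_, ?_⟩)
      · rintro ⟨r, hr, rfl⟩
        obtain ⟨k, rfl⟩ := List.mem_iff_get.1 hr
        exact ⟨k.cast hlen, rfl⟩
      · rintro ⟨k, rfl⟩
        exact ⟨_, List.get_mem rs (k.cast hlen.symm), rfl⟩
    obtain ⟨w, hw, hex⟩ := exists_away_exact hf (hVf.symm.trans (span_values ht b))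
    have hzw : i z ∈ Y.basicOpen w := by
      have hzV : i z ∈ V.1 := hza
      rw [Scheme.mem_basicOpen Y w _ hzV]
      have h0 : i.stalkMap z (Y.presheaf.germ V.1 (i z) hzV (w - 1)) = 0 := by
        rw [Scheme.Hom.germ_stalkMap_apply]
        have h1 : w - 1 ∈ RingHom.ker (i.app V.1).hom := by
          rw [← Scheme.Hom.ker_apply, hVf]; exact hw
        rw [show i.app V.1 (w - 1) = 0 from h1, map_zero]
      rw [map_sub, map_sub, map_one, map_one, sub_eq_zero] at h0
      haveI : IsLocalHom (i.stalkMap z).hom := inferInstance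
      exact isUnit_of_map_unit (i.stalkMap z).hom _ (h0 ▸ isUnit_one)
    haveI := V.2.isLocalization_basicOpen w
    haveI : Coh.IsQCoh E := (VBResLib.isCoh_of_vb (SeesawLib.isFinLocFree_of_rank hE)).1
    obtain ⟨b', hb'⟩ := KoszShLib.exists_basis_res b w
    refine ⟨Y.affineBasicOpen w, hzw, b', ?_⟩
    haveI : Module.Flat Γ(Y, V.1) Γ(Y, Y.basicOpen w) := IsLocalization.flat _ (Submonoid.powers w)
    have h := hex Γ(Y, Y.basicOpen w) (IsLocalization.Away.algebraMap_isUnit w)
    have e : secVals t b' = fun k => algebraMap Γ(Y, V.1) Γ(Y, Y.basicOpen w) (secVals t b k) :=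
      funext fun k => (congrArg (KoszSh.secForm t (Y.basicOpen w)) (hb' k)).trans
        (KoszShLib.secForm_res t (Y.basicOpen_le w) (b k))
    exact (e.symm ▸ h : IsExactK (secVals t b'))
  · obtain ⟨U, hU, hxU, hle⟩ := exists_isAffineOpen_mem_and_subset
      (show x ∈ O ⊓ ⟨(Set.range i)ᶜ, i.isClosedEmbedding.isClosed_range.isOpen_compl⟩ from ⟨hxO, hx⟩)
    obtain ⟨b⟩ := hO ⟨U, hU⟩ fun y hy => (hle hy).1
    refine ⟨⟨U, hU⟩, hxU, b, isExactK_of_top ?_⟩
    rw [← span_values ht b, Scheme.Hom.ker_apply, eq_top_iff]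
    intro a _
    have hempty : i ⁻¹ᵁ U = ⊥ := by
      ext y
      exact ⟨fun hy => ((hle hy).2 ⟨y, rfl⟩).elim, fun hy => hy.elim⟩
    haveI : Subsingleton Γ(X, i ⁻¹ᵁ U) := by
      rw [hempty]
      infer_instance
    exact Subsingleton.elim (α := Γ(X, i ⁻¹ᵁ U)) _ _

theorem isZero_homology {n : ℕ} {s : E ⟶ Coh.structureModule Y} (C : KoszSh.Cx E s) [Coh.IsQCoh E]
    (h : ∀ x : Y, ∃ U : Y.affineOpens, x ∈ U.1 ∧ GoodExact s n U) (q : ℕ) (hq : 1 ≤ q) :
    IsZero (C.K.homology q) := by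
  haveI := fun p => KoszShLib.isQCoh_term C p
  have hB := KoszShLib.isBasisPred_goodExact h
  obtain ⟨p, rfl⟩ := Nat.exists_eq_add_of_le' hq
  refine IsZero.of_epi_eq_zero (C.K.homologyπ (p + 1)) (KoszShLib.hom_zero_of_basis hB _ fun U hU z => ?_)
  obtain ⟨b, hb⟩ := hU
  refine (KoszShLib.homologyπ_eq_zero_iff C.K (p + 1) U.2 z).2 (KoszShLib.exists_d_app_of_isExactK C U b hb _ ?_)
  exact KoszShLib.app_zero_of_comp (C.K.iCycles_d (p + 1) p) U.1 z

/-- **The Koszul resolution of the zero scheme.** -/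
theorem exists_lfRes (hE : FlatMod.IsFinLocFreeOfRank d E) (ht : IsZeroScheme t i)
    (hi : Mor2.IsRegularClosedImmersion i) (hci : FlatMod.IsFinLocFreeOfRank d (Omega.conormal i)) :
    ∃ (C : KoszSh.Cx E t)
      (π : C.K ⟶ (ChainComplex.single₀ Y.Modules).obj ((Scheme.Modules.pushforward i).obj (Coh.structureModule X))),
      KRR.IsLFRes ((Scheme.Modules.pushforward i).obj (Coh.structureModule X)) d C.K π := by
  have hEv := SeesawLib.isFinLocFree_of_rank hE
  haveI : Coh.IsQCoh E := (VBResLib.isCoh_of_vb hEv).1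
  obtain ⟨C⟩ := KoszShLib.exists_cx t
  haveI := fun p => KoszShLib.isQCoh_term C p
  have hB := KoszShLib.isBasisPred_true (X := Y)
  -- the augmentation
  let α : ∀ U : Y.affineOpens, Γ(C.K.X 0, U.1) →ₗ[Γ(Y, U.1)] Γ(Coh.structureModule Y, U.1) := fun U =>
    { toFun := fun z => (OmegaSh.strSect Y U.1 (exteriorPower.zeroEquiv Γ(Y, U.1) Γ(E, U.1) (C.loc 0 U z)))
      map_add' := fun a b => by rw [map_add, map_add, map_add]
      map_smul' := fun r a => by rw [map_smul, map_smul, RingHom.id_apply]; rfl }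
  have hα : ∀ (U : Y.affineOpens) (c : Γ(Y, U.1)) (e : Fin 0 → Γ(E, U.1)),
      α U ((C.loc 0 U).symm (c • exteriorPower.ιMulti _ 0 e)) = OmegaSh.strSect Y U.1 c := fun U c e => by
    show OmegaSh.strSect Y U.1 (exteriorPower.zeroEquiv Γ(Y, U.1) Γ(E, U.1) (C.loc 0 U _)) = _
    rw [LinearEquiv.apply_symm_apply, map_smul, exteriorPower.zeroEquiv_ιMulti, smul_eq_mul, mul_one]
  have hgen : ∀ (U : Y.affineOpens) (z : Γ(C.K.X 0, U.1)), ∃ c : Γ(Y, U.1),
      z = (C.loc 0 U).symm (c • exteriorPower.ιMulti _ 0 (Fin.elim0 : Fin 0 → Γ(E, U.1))) := fun U z => by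
    refine ⟨exteriorPower.zeroEquiv Γ(Y, U.1) Γ(E, U.1) (C.loc 0 U z), (C.loc 0 U).injective ?_⟩
    rw [LinearEquiv.apply_symm_apply]
    apply (exteriorPower.zeroEquiv Γ(Y, U.1) Γ(E, U.1)).injective
    rw [map_smul, exteriorPower.zeroEquiv_ιMulti, smul_eq_mul, mul_one]
  obtain ⟨a₀, ha₀⟩ := KoszShLib.exists_hom_basis hB (fun U _ => α U) fun U V _ _ h z => by
    obtain ⟨c, rfl⟩ := hgen U z
    rw [hα, map_smul, AmpleLib.res_smul, show AmpleLib.res (C.K.X 0) h ((C.loc 0 U).symm
      (exteriorPower.ιMulti _ 0 Fin.elim0)) = _ from C.loc_res 0 U V h _, ← map_smul, hα]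
    rfl
  let ρ : Coh.structureModule Y ⟶ (Scheme.Modules.pushforward i).obj (Coh.structureModule X) :=
    SheafOfModules.unitToPushforwardObjUnit i.toRingCatSheafHom
  let π₀ := a₀ ≫ ρ
  have hπ₀ : ∀ (U : Y.affineOpens) (c : Γ(Y, U.1)) (e : Fin 0 → Γ(E, U.1)),
      π₀.app U.1 ((C.loc 0 U).symm (c • exteriorPower.ιMulti _ 0 e)) = (i.app U.1 c : Γ(X, i ⁻¹ᵁ U.1)) := by
    intro U c e
    rw [KoszShLib.app_comp_apply, ha₀ U trivial, hα]
    rfl
  have hd : ∀ (U : Y.affineOpens) (e : Fin 1 → Γ(E, U.1)),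
      (C.K.d 1 0).app U.1 ((C.loc 1 U).symm (exteriorPower.ιMulti _ 1 e)) =
        (C.loc 0 U).symm (KoszSh.secForm t U.1 (e 0) • exteriorPower.ιMulti _ 0 (fun j => e ((0 : Fin 1).succAbove j))) := by
    intro U e
    rw [C.rule 0 U e, KoszSh.dGen, Fin.sum_univ_one, Fin.val_zero, pow_zero, one_mul]
  have hw : C.K.d 1 0 ≫ π₀ = 0 := KoszShLib.hom_zero_of_basis hB _ fun U _ z => by
    obtain ⟨z, rfl⟩ := (C.loc 1 U).symm.surjective z
    have hz : z ∈ Submodule.span Γ(Y, U.1) (Set.range (exteriorPower.ιMulti Γ(Y, U.1) 1 (M := Γ(E, U.1)))) := by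
      rw [exteriorPower.ιMulti_span]; trivial
    induction hz using Submodule.span_induction with
    | mem a ha =>
      obtain ⟨e, rfl⟩ := ha
      rw [KoszShLib.app_comp_apply, hd, hπ₀]
      have h1 : KoszSh.secForm t U.1 (e 0) ∈ RingHom.ker (i.app U.1).hom := by
        rw [← Scheme.Hom.ker_apply, ht U]
        exact Ideal.subset_span ⟨e 0, rfl⟩
      exact h1
    | zero => simp only [map_zero]
    | add a b _ _ ha hb => simp only [map_add, ha, hb, add_zero]
    | smul c a _ ha => rw [map_smul, Scheme.Modules.Hom.app_smul, ha, smul_zero]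
  haveI hepi : Epi π₀ := KoszShLib.epi_of_basis hB _ fun U _ w => by
    obtain ⟨c, hc⟩ := Scheme.Hom.app_surjective i U.1 U.2 (w : Γ(X, i ⁻¹ᵁ U.1))
    exact ⟨_, (hπ₀ U c Fin.elim0).trans hc⟩
  have hexact : (ShortComplex.mk (C.K.d 1 0) π₀ hw).Exact := by
    rw [ShortComplex.exact_iff_epi_kernel_lift]
    refine KoszShLib.epi_of_basis hB _ fun U _ k => ?_
    have hk : π₀.app U.1 ((kernel.ι π₀).app U.1 k) = 0 := KoszShLib.app_zero_of_comp (kernel.condition π₀) U.1 k
    obtain ⟨c, hc⟩ := hgen U ((kernel.ι π₀).app U.1 k)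
    rw [hc, hπ₀] at hk
    have hcI : c ∈ i.ker.ideal U := by rw [Scheme.Hom.ker_apply]; exact hk
    obtain ⟨e, he⟩ : ∃ e : Γ(E, U.1), KoszSh.secForm t U.1 e = c := by
      have h1 : c ∈ Submodule.map (KoszSh.secForm t U.1) ⊤ := by
        rw [ht U] at hcI
        refine (Ideal.span_le.2 ?_) hcI
        rintro a ⟨s, rfl⟩
        exact ⟨s, trivial, rfl⟩
      obtain ⟨e, -, he⟩ := h1
      exact ⟨e, he⟩
    refine ⟨(C.loc 1 U).symm (exteriorPower.ιMulti _ 1 fun _ => e), ?_⟩
    apply (QCohLib.app_injective_of_mono (kernel.ι π₀) U.1)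
    refine (KoszShLib.app_comp_apply _ _ _ _).symm.trans ?_
    rw [kernel.lift_ι]
    refine (hd U _).trans ?_
    rw [hc, he]
    exact congrArg _ (congrArg (c • ·) (congrArg _ (Subsingleton.elim _ _)))
  refine ⟨C, (ChainComplex.toSingle₀Equiv C.K _).symm ⟨π₀, hw⟩, ⟨fun p => ?_, fun p hp => ?_, ⟨fun p => ?_⟩⟩⟩
  · exact ExtPowLib.isFinLocFree hEv (C.isExtPow p)
  · have hr := GrassSch.rank_extPow hE (C.isExtPow p)
    rw [Nat.choose_eq_zero_of_lt hp] at hr
    refine (KFlatLib.isZero_iff_forall_stalk _).2 fun x => ?_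
    obtain ⟨e⟩ := CurvLib.nonempty_stalk_pi_of_locFree hr x
    exact ModuleCat.isZero_iff_subsingleton.2 e.toEquiv.subsingleton
  · cases p with
    | zero =>
      rw [ChainComplex.quasiIsoAt₀_iff, ShortComplex.quasiIso_iff_of_zeros']
      · refine (ShortComplex.exact_and_epi_g_iff_of_iso (S₂ := ShortComplex.mk (C.K.d 1 0) π₀ hw) ?_).2 ⟨hexact, hepi⟩
        exact ShortComplex.isoMk (Iso.refl _) (Iso.refl _) (Iso.refl _) ((Category.id_comp _).trans (Category.comp_id _).symm)
          (by simp)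
      all_goals first | rfl | exact HomologicalComplex.shape _ _ _ (by simp)
    | succ p =>
      rw [quasiIsoAt_iff_exactAt']
      · rw [HomologicalComplex.exactAt_iff_isZero_homology]
        exact isZero_homology C (fun x => exists_goodExact hE ht hi hci x) (p + 1) (by omega)
      · exact ChainComplex.exactAt_succ_single_obj _ _

variable {KX : Type w} [CommRing KX] [LambdaRing.LambdaOps KX] {PX : LambdaRing.PosStructure KX} {φX : SGA6.Kvb X →+ KX}
  {KY : Type v} [CommRing KY] [LambdaRing.LambdaOps KY] {PY : LambdaRing.PosStructure KY} {φY : SGA6.Kvb Y →+ KY}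

/-- **The class of the zero scheme of a regular section.** -/
theorem pushCl_one (hE : FlatMod.IsFinLocFreeOfRank d E) (ht : IsZeroScheme t i)
    (hi : Mor2.IsRegularClosedImmersion i) (hci : FlatMod.IsFinLocFreeOfRank d (Omega.conormal i))
    (hKX : KRR.IsModel X KX PX φX) (hKY : KRR.IsModel Y KY PY φY) {h : KX →+ KY} (hh : KRR.IsPushCl i φX φY h) :
    h 1 = KRR.lamAlt PY (φY (KRR.cl Y E)) := by
  obtain ⟨C, π, hπ⟩ := exists_lfRes hE ht hi hci
  have hEv := SeesawLib.isFinLocFree_of_rank hE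
  rw [← hKX.map_one, hh _ (SeesawLib.isFinLocFree_of_rank (CohCmpLib.rank_one_structureModule X)) d C.K π hπ,
    KRR.lamAlt, hKY.aug_cl d E hE, Int.toNat_natCast]
  refine Finset.sum_congr rfl fun k _ => ?_
  rw [hKY.map_lam k E (C.K.X k) hEv (hπ.finLocFree k) (C.isExtPow k), zsmul_eq_mul, Int.cast_pow, Int.cast_neg,
    Int.cast_one]

end KZeroSecLib

end
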